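import Cfsg.Agent.H612.Ore.Engine

/-!
# Class cover trees with bit masks

The same certificates as in `H612.Ore.Engine` (an element of the isometry group is conjugate to one of
finitely many explicit matrices), but the set of possible images of a basis vector is one natural number
(a bit mask of length `2 ^ n`), so that a node costs a few dozen operations on numbers.
-/

set_option autoImplicit false

namespace Cfsg.Agent.H201.O8

open Cfsg.Agent.H612.Ore

/-- certificate trees (left child, right sibling) -/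
inductive MT
  /-- no more children -/
  | nil : MT
  /-- the child `y` completes the matrix; it is `c * rep idx * c⁻¹` -/
  | leaf (y idx c : ℕ) (sib : MT) : MT
  /-- the child `y`; there `j` is treated next, `mv` are the moves, `bs` the vectors whose images are excluded -/
  | node (y j : ℕ) (mv : List (ℕ × ℕ)) (bs : List ℕ) (kids sib : MT) : MT

/-- images of the children -/
def MT.keys : MT → List ℕ
  | .nil => []
  | .leaf y _ _ sib => y :: sib.keys
  | .node y _ _ _ _ sib => y :: sib.keys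

/-- data: masks of the quadratic form and of the bilinear form -/
structure Masks (n : ℕ) (B : ℕ → ℕ → Bool) (Q : ℕ → Bool) (fl mQ : ℕ) (mB : ℕ → ℕ)
    (b0 : ℕ → ℕ → Bool) (q0 : ℕ → Bool) : Prop where
  hfl : ∀ v, v < 2 ^ n → fl.testBit v = true
  hQ : ∀ v, v < 2 ^ n → mQ.testBit v = Q v
  hB : ∀ u, u < 2 ^ n → ∀ v, v < 2 ^ n → (mB u).testBit v = B v u
  hb : ∀ i, i < n → ∀ j, j < n → b0 i j = B (2 ^ i) (2 ^ j)
  hq : ∀ i, i < n → q0 i = Q (2 ^ i)

section defs

variable (n fl mQ : ℕ) (mB : ℕ → ℕ) (b0 : ℕ → ℕ → Bool) (q0 : ℕ → Bool)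

/-- fast isometry test -/
def isomF (c : ℕ) : Bool :=
  (List.range n).all fun i => (mQ.testBit (col n c i) == q0 i) &&
    (List.range n).all fun j => (mB (col n c i)).testBit (col n c j) == b0 j i

/-- mask of the candidates for the image of the basis vector `j` -/
def cm (s : State) (j : ℕ) : ℕ :=
  s.foldr (fun p m => m &&& (bif b0 j p.1 then mB p.2 else fl ^^^ mB p.2))
    (bif q0 j then mQ else fl ^^^ mQ)

/-- mask of a list -/
def bits (l : List ℕ) : ℕ := l.foldr (fun y m => m ||| (1 <<< y)) 0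

/-- the part of `x` in the span of the assigned basis vectors, and its image -/
def prj (s : State) (x : ℕ) : ℕ × ℕ :=
  s.foldr (fun p u => bif x.testBit p.1 then (u.1 ^^^ 2 ^ p.1, u.2 ^^^ p.2) else u) (0, 0)

/-- a move is valid -/
def okm (s : State) (j y h : ℕ) (ks : List ℕ) : Bool :=
  isomF n mQ mB b0 q0 h && (col n h j == 2 ^ j) && (s.all fun p => (col n h p.1 == 2 ^ p.1) && (apc n h p.2 == p.2)) &&
    ks.contains (apc n h y)

/-- all the images of the basis vector `j` are covered -/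
def mcov (s : State) (j : ℕ) (mv : List (ℕ × ℕ)) (bs ks : List ℕ) : Bool :=
  Nat.blt j n && (bs.all fun x => !((prj s x).1 == 2 ^ j)) &&
    (mv.all fun m => okm n mQ mB b0 q0 s j m.1 m.2 ks) &&
    ((cm fl mQ mB b0 q0 s j &&& (fl ^^^ bits (ks ++ (mv.map Prod.fst ++ bs.map fun x => (prj s x).2)))) == 0)

/-- a leaf is valid -/
def okl (reps : List ℕ) (s : State) (idx c : ℕ) : Bool :=
  ((List.range n).all fun i => s.any fun p => (p.1 == i) && (p.2 == col n (code n s) i)) &&
    isomF n mQ mB b0 q0 c && Nat.blt idx reps.length && (List.range n).all fun i =>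
      apc n (code n s) (col n c i) == apc n c (col n (reps.getD idx 0) i)

/-- the checker -/
def mchk (reps : List ℕ) : MT → State → ℕ → Bool
  | .nil, _, _ => true
  | .leaf y idx c sib, s, j => okl n mQ mB b0 q0 reps ((j, y) :: s) idx c && mchk reps sib s j
  | .node y j' mv bs kids sib, s, j =>
    mcov n fl mQ mB b0 q0 ((j, y) :: s) j' mv bs kids.keys &&
      (mchk reps kids ((j, y) :: s) j' && mchk reps sib s j)

end defs

variable {G : Type*} [Group G] {n : ℕ} {B : ℕ → ℕ → Bool} {Q : ℕ → Bool} (A : Act G n B Q)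
  {fl mQ : ℕ} {mB : ℕ → ℕ} {b0 : ℕ → ℕ → Bool} {q0 : ℕ → Bool} (W : Masks n B Q fl mQ mB b0 q0)

include W in
theorem isom_of {c : ℕ} (h : isomF n mQ mB b0 q0 c = true) : isom n B Q c = true := by
  rw [isomF, List.all_eq_true] at h
  rw [isom, List.all_eq_true]
  intro i hi
  have hi' := List.mem_range.1 hi
  have h1 := h i hi
  rw [Bool.and_eq_true, beq_iff_eq, W.hQ _ (col_lt _ _ _), W.hq i hi'] at h1
  rw [Bool.and_eq_true, beq_iff_eq]
  refine ⟨h1.1, ?_⟩
  rw [List.all_eq_true]
  intro j hj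
  have hj' := List.mem_range.1 hj
  have h2 := h j hj
  rw [Bool.and_eq_true, List.all_eq_true] at h2
  have h3 := h2.2 i hi
  rw [beq_iff_eq, W.hB _ (col_lt _ _ _) _ (col_lt _ _ _), W.hb i hi' j hj'] at h3
  rw [beq_iff_eq]
  exact h3

include W in
theorem cm_spec {s : State} {j y : ℕ} (hj : j < n) (hy : y < 2 ^ n) (hQ : Q y = Q (2 ^ j))
    (hs : ∀ p ∈ s, p.1 < n ∧ p.2 < 2 ^ n ∧ B y p.2 = B (2 ^ j) (2 ^ p.1)) :
    (cm fl mQ mB b0 q0 s j).testBit y = true := by
  induction s with
  | nil =>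
    show (bif q0 j then mQ else fl ^^^ mQ).testBit y = true
    rw [W.hq j hj]
    cases h : Q (2 ^ j)
    · rw [cond_false, Nat.testBit_xor, W.hfl y hy, W.hQ y hy, hQ, h]; rfl
    · rw [cond_true, W.hQ y hy, hQ, h]
  | cons p s ih =>
    show ((cm fl mQ mB b0 q0 s j) &&& (bif b0 j p.1 then mB p.2 else fl ^^^ mB p.2)).testBit y = true
    obtain ⟨h1, h2, h3⟩ := hs p List.mem_cons_self
    rw [Nat.testBit_and, ih fun q hq => hs q (List.mem_cons_of_mem _ hq), Bool.true_and, W.hb j hj _ h1, ← h3]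
    cases h : B y p.2
    · rw [cond_false, Nat.testBit_xor, W.hfl y hy, W.hB _ h2 y hy, h]; rfl
    · rw [cond_true, W.hB _ h2 y hy, h]

theorem mem_of_bits {l : List ℕ} {y : ℕ} (h : (bits l).testBit y = true) : y ∈ l := by
  induction l with
  | nil =>
    rw [bits, List.foldr_nil, Nat.zero_testBit] at h
    exact Bool.noConfusion h
  | cons a l ih =>
    have h1 : (bits l ||| (1 <<< a)).testBit y = true := h
    rw [Nat.testBit_or, Bool.or_eq_true] at h1
    rcases h1 with h1 | h1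
    · exact List.mem_cons_of_mem _ (ih h1)
    · rw [Nat.one_shiftLeft, Nat.testBit_two_pow, decide_eq_true_eq] at h1
      rw [← h1]
      exact List.mem_cons_self

theorem con_prj {g : G} {s : State} (h : A.Con g s) (x : ℕ) :
    (prj s x).1 < 2 ^ n ∧ A.ap g (prj s x).1 = (prj s x).2 := by
  induction s with
  | nil => exact ⟨Nat.two_pow_pos n, A.ap_zero g⟩
  | cons p s ih =>
    have ih' := ih fun q hq => h q (List.mem_cons_of_mem _ hq)
    have hp := h p List.mem_cons_self
    have e : prj (p :: s) x = bif x.testBit p.1 then ((prj s x).1 ^^^ 2 ^ p.1, (prj s x).2 ^^^ p.2) else prj s x := rfl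
    rw [e]
    cases x.testBit p.1
    · exact ih'
    · rw [cond_true]
      refine ⟨Nat.xor_lt_two_pow ih'.1 (two_pow_lt hp.1), ?_⟩
      show A.ap g ((prj s x).1 ^^^ 2 ^ p.1) = (prj s x).2 ^^^ p.2
      rw [A.xor _ _ _ ih'.1 (two_pow_lt hp.1), ih'.2, hp.2]

include W in
/-- soundness of one branching -/
theorem msound_step {reps : List ℕ} {s : State} {j : ℕ} {mv : List (ℕ × ℕ)} {bs ks : List ℕ}
    (hcov : mcov n fl mQ mB b0 q0 s j mv bs ks = true)
    (hks : ∀ y ∈ ks, ∀ g : G, A.Con g ((j, y) :: s) → A.Good reps g) :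
    ∀ g : G, A.Con g s → A.Good reps g := by
  intro g hg
  rw [mcov, Bool.and_eq_true, Bool.and_eq_true, Bool.and_eq_true] at hcov
  obtain ⟨⟨⟨hj, hbs⟩, hmv⟩, hcm⟩ := hcov
  rw [Nat.blt_eq] at hj
  obtain ⟨y, ey⟩ : ∃ y, y = A.ap g (2 ^ j) := ⟨_, rfl⟩
  have hy : y < 2 ^ n := by rw [ey]; exact A.lt g _ (two_pow_lt hj)
  have hyc : (cm fl mQ mB b0 q0 s j).testBit y = true := by
    refine cm_spec W hj hy ?_ ?_
    · rw [ey]; exact A.formQ _ _ (two_pow_lt hj)
    · intro p hp
      have h2 := hg p hp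
      refine ⟨h2.1, ?_, ?_⟩
      · rw [← h2.2]; exact A.lt _ _ (two_pow_lt h2.1)
      · rw [← h2.2, ey]; exact A.formB _ _ _ (two_pow_lt hj) (two_pow_lt h2.1)
  have h0 := congrArg (fun m : ℕ => m.testBit y) (eq_of_beq hcm)
  simp only [Nat.testBit_and, hyc, Bool.true_and, Nat.testBit_xor, W.hfl y hy, Nat.zero_testBit,
    Bool.true_xor, Bool.not_eq_eq_eq_not, Bool.not_false] at h0
  have hm := mem_of_bits h0
  rw [List.mem_append, List.mem_append] at hm
  rcases hm with hm | hm | hm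
  · apply hks y hm g
    intro p hp
    rcases List.mem_cons.1 hp with rfl | hp
    · exact ⟨hj, ey.symm⟩
    · exact hg p hp
  · obtain ⟨m, hm1, hm2⟩ := List.mem_map.1 hm
    have h2 := List.all_eq_true.1 hmv m hm1
    rw [okm, Bool.and_eq_true, Bool.and_eq_true, Bool.and_eq_true] at h2
    obtain ⟨⟨⟨h3, h4⟩, h5⟩, h6⟩ := h2
    obtain ⟨h, hh⟩ := A.exists_rep (isom_of W h3)
    rw [List.contains_iff_mem] at h6
    apply A.good_conj reps (h := h)
    have hhj : A.ap h (2 ^ j) = 2 ^ j := by rw [hh j hj, eq_of_beq h4]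
    have hinv : ∀ v, v < 2 ^ n → A.ap h v = v → A.ap h⁻¹ v = v := by
      intro v hv e
      conv_lhs => rw [← e]
      exact A.inv_ap h hv
    apply hks _ h6 _
    intro p hp
    rcases List.mem_cons.1 hp with rfl | hp
    · refine ⟨hj, ?_⟩
      show A.ap (h * g * h⁻¹) (2 ^ j) = apc n m.2 m.1
      rw [A.mul _ _ _ (two_pow_lt hj), hinv _ (two_pow_lt hj) hhj, A.mul _ _ _ (two_pow_lt hj), ← ey,
        A.ap_eq hh hy, hm2]
    · have h7 := hg p hp
      have h8 := List.all_eq_true.1 h5 p hp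
      rw [Bool.and_eq_true] at h8
      refine ⟨h7.1, ?_⟩
      have h9 : A.ap h (2 ^ p.1) = 2 ^ p.1 := by rw [hh _ h7.1, eq_of_beq h8.1]
      have hlt : p.2 < 2 ^ n := by rw [← h7.2]; exact A.lt _ _ (two_pow_lt h7.1)
      rw [A.mul _ _ _ (two_pow_lt h7.1), hinv _ (two_pow_lt h7.1) h9, A.mul _ _ _ (two_pow_lt h7.1), h7.2,
        A.ap_eq hh hlt, eq_of_beq h8.2]
  · exfalso
    obtain ⟨x, hx1, hx2⟩ := List.mem_map.1 hm
    have h2 := List.all_eq_true.1 hbs x hx1
    rw [Bool.not_eq_true', beq_eq_false_iff_ne] at h2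
    obtain ⟨h3, h4⟩ := con_prj A hg x
    apply h2
    apply A.inj g h3 (two_pow_lt hj)
    rw [h4, hx2, ey]

include W in
theorem mgood_of_leaf {reps : List ℕ} {s : State} {idx c : ℕ} (hok : okl n mQ mB b0 q0 reps s idx c = true)
    (hrep : ∀ r ∈ reps, isom n B Q r = true) {g : G} (hg : A.Con g s) : A.Good reps g := by
  rw [okl, Bool.and_eq_true, Bool.and_eq_true, Bool.and_eq_true] at hok
  obtain ⟨⟨⟨h1, h2⟩, h3⟩, h4⟩ := hok
  apply A.good_of_leaf reps (idx := idx) (c := c) (s := s) _ hrep hg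
  rw [okleaf, Bool.and_eq_true, Bool.and_eq_true, Bool.and_eq_true]
  exact ⟨⟨⟨h1, isom_of W h2⟩, h3⟩, h4⟩

include W in
theorem msound {reps : List ℕ} (hrep : ∀ r ∈ reps, isom n B Q r = true) (T : MT) :
    ∀ (s : State) (j : ℕ), mchk n fl mQ mB b0 q0 reps T s j = true →
      ∀ y ∈ T.keys, ∀ g : G, A.Con g ((j, y) :: s) → A.Good reps g := by
  induction T with
  | nil =>
    intro s j _ y hy
    rw [MT.keys] at hy
    simp at hy
  | leaf y idx c sib ih =>
    intro s j h z hz g hg
    rw [mchk, Bool.and_eq_true] at h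
    rw [MT.keys, List.mem_cons] at hz
    rcases hz with rfl | hz
    · exact mgood_of_leaf A W h.1 hrep hg
    · exact ih s j h.2 z hz g hg
  | node y j' mv bs kids sib ih1 ih2 =>
    intro s j h z hz g hg
    rw [mchk, Bool.and_eq_true, Bool.and_eq_true] at h
    rw [MT.keys, List.mem_cons] at hz
    rcases hz with rfl | hz
    · exact msound_step A W h.1 (ih1 _ _ h.2.1) g hg
    · exact ih2 s j h.2.2 z hz g hg

end Cfsg.Agent.H201.O8
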