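import Cfsg.Agent.StdO8.Gen
import Cfsg.Agent.H201.O8.MEng

/-!
# The isometry group of `𝔽₂⁸` on codes

`act8 : Act O8 8 Bn qn` : the action of the isometry group on the codes of `StdO8.Code`, and the masks of the
forms for the checker of `MEng`.
-/

set_option autoImplicit false

namespace Cfsg.Agent.H201.O8

open Cfsg.Agent.StdO8.Model Cfsg.Agent.StdO8.Code Cfsg.Agent.H612.Ore

/-- the code of a vector -/
noncomputable def cd (x : V) : ℕ := Classical.choose (dec_surj x)

theorem cd_lt (x : V) : cd x < 256 := (Classical.choose_spec (dec_surj x)).1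
theorem dec_cd (x : V) : dec (cd x) = x := (Classical.choose_spec (dec_surj x)).2
theorem cd_dec {v : ℕ} (hv : v < 256) : cd (dec v) = v := dec_inj (cd_lt _) hv (dec_cd _)
theorem cd_inj {x y : V} (h : cd x = cd y) : x = y := by rw [← dec_cd x, h, dec_cd]

theorem mem_basis {b : ℕ} (h : b ∈ basis) : ∃ i < 8, b = 2 ^ i := by
  have : ∀ b ∈ basis, ∃ i < 8, b = 2 ^ i := by decide
  exact this b h

theorem col_lt' (c i : ℕ) : col 8 c i < 256 := Nat.mod_lt _ (by norm_num)

/-- the linear map with given columns -/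
noncomputable def lmap (c : ℕ) : V →ₗ[ZMod 2] V :=
  (Pi.basisFun (ZMod 2) (Fin 4 ⊕ Fin 4)).constr (ZMod 2) fun a => dec (col 8 c (ix a))

theorem ix_lt : ∀ a, ix a < 8 := by decide

theorem dec_ix (a : Fin 4 ⊕ Fin 4) : dec (2 ^ ix a) = Pi.single a 1 := by
  rcases a with a | a
  · exact dec_basis_inl a
  · exact dec_basis_inr a

theorem exists_ix : ∀ i < 8, ∃ a : Fin 4 ⊕ Fin 4, ix a = i := by decide

theorem lmap_dec (c : ℕ) {i : ℕ} (hi : i < 8) : lmap c (dec (2 ^ i)) = dec (col 8 c i) := by
  obtain ⟨a, rfl⟩ := exists_ix i hi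
  rw [dec_ix, lmap, ← Pi.basisFun_apply, Module.Basis.constr_basis]

/-- additive maps vanishing on the basis -/
theorem add_ext {D : V → ZMod 2} (hD : ∀ x y, D (x + y) = D x + D y) (h0 : ∀ i < 8, D (dec (2 ^ i)) = 0) (x : V) :
    D x = 0 := by
  have hz : D 0 = 0 := by
    have := hD 0 0
    rw [add_zero] at this
    exact left_eq_add.1 this
  let F : V →+ ZMod 2 := { toFun := D, map_zero' := hz, map_add' := hD }
  have hF : F.toZModLinearMap 2 = 0 := by
    apply (Pi.basisFun (ZMod 2) (Fin 4 ⊕ Fin 4)).ext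
    intro a
    rw [Pi.basisFun_apply, ← dec_ix]
    exact h0 _ (ix_lt a)
  exact LinearMap.congr_fun hF x

theorem lmap_B {c : ℕ} (hB : ∀ i, i < 8 → ∀ j, j < 8 → Bn (col 8 c i) (col 8 c j) = Bn (2 ^ i) (2 ^ j)) (x y : V) :
    B (lmap c x) (lmap c y) = B x y := by
  have two : ∀ a : ZMod 2, a + a = 0 := by decide
  have e2 : ∀ a b : ZMod 2, a + b = 0 → a = b := by decide
  have h1 : ∀ i < 8, ∀ y : V, B (lmap c (dec (2 ^ i))) (lmap c y) + B (dec (2 ^ i)) y = 0 := by
    intro i hi y
    refine add_ext (D := fun y => B (lmap c (dec (2 ^ i))) (lmap c y) + B (dec (2 ^ i)) y) ?_ ?_ y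
    · intro x y
      simp only [map_add, B_add_right]
      ring
    · intro j hj
      simp only [lmap_dec c hi, lmap_dec c hj, B_dec, hB i hi j hj]
      exact two _
  apply e2
  refine add_ext (D := fun x => B (lmap c x) (lmap c y) + B x y) ?_ ?_ x
  · intro x z
    simp only [map_add, B_add_left]
    ring
  · intro i hi
    exact h1 i hi y

theorem lmap_q {c : ℕ} (hB : ∀ i, i < 8 → ∀ j, j < 8 → Bn (col 8 c i) (col 8 c j) = Bn (2 ^ i) (2 ^ j))
    (hQ : ∀ i, i < 8 → qn (col 8 c i) = qn (2 ^ i)) (x : V) : q (lmap c x) = q x := by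
  have two : ∀ a : ZMod 2, a + a = 0 := by decide
  have e2 : ∀ a b : ZMod 2, a + b = 0 → a = b := by decide
  apply e2
  refine add_ext (D := fun x => q (lmap c x) + q x) ?_ ?_ x
  · intro x y
    simp only [map_add, q_add, lmap_B hB]
    have := two (B x y)
    linear_combination this
  · intro i hi
    simp only [lmap_dec c hi, q_dec, hQ i hi]
    exact two _

theorem exists_real (c : ℕ) (hB : ∀ i, i < 8 → ∀ j, j < 8 → Bn (col 8 c i) (col 8 c j) = Bn (2 ^ i) (2 ^ j))
    (hQ : ∀ i, i < 8 → qn (col 8 c i) = qn (2 ^ i)) :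
    ∃ g : O8, ∀ i, i < 8 → cd ((g : V ≃ₗ[ZMod 2] V) (dec (2 ^ i))) = col 8 c i := by
  have hinj : Function.Injective (lmap c) := by
    rw [← LinearMap.ker_eq_bot, LinearMap.ker_eq_bot']
    intro x hx
    apply nondeg
    intro y
    rw [← lmap_B hB x y, hx, B_zero_left]
  let e : V ≃ₗ[ZMod 2] V := LinearEquiv.ofInjectiveEndo (lmap c) hinj
  have he : ∀ x, e x = lmap c x := fun x => rfl
  refine ⟨⟨e, mem_O8.2 fun v => ?_⟩, fun i hi => ?_⟩
  · rw [he]; exact lmap_q hB hQ v
  · show cd (e (dec (2 ^ i))) = _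
    rw [he, lmap_dec c hi, cd_dec (col_lt' c i)]

/-- the action on codes -/
noncomputable def act8 : Act O8 8 Bn qn where
  ap g v := cd ((g : V ≃ₗ[ZMod 2] V) (dec v))
  one v hv := cd_dec hv
  mul g h v _ := by
    show cd ((g : V ≃ₗ[ZMod 2] V) ((h : V ≃ₗ[ZMod 2] V) (dec v))) = cd ((g : V ≃ₗ[ZMod 2] V) (dec (cd _)))
    rw [dec_cd]
  lt g v _ := cd_lt _
  xor g u v hu hv := by
    apply dec_inj (cd_lt _) (Nat.xor_lt_two_pow (n := 8) (cd_lt _) (cd_lt _))
    rw [dec_cd, dec_xor, map_add, dec_xor, dec_cd, dec_cd]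
  formB g u v _ _ := by
    apply cc_inj
    rw [← B_dec, ← B_dec, dec_cd, dec_cd]
    exact O8_B g.2 _ _
  formQ g u _ := by
    apply cc_inj
    rw [← q_dec, ← q_dec, dec_cd]
    exact O8_q g.2 _
  faithful g h := by
    apply Subtype.ext
    apply lin_ext
    intro b hb
    obtain ⟨i, hi, rfl⟩ := mem_basis hb
    apply cd_inj
    have e : cd ((g : V ≃ₗ[ZMod 2] V) (dec (2 ^ i))) = 2 ^ i := h i hi
    rw [e]
    show 2 ^ i = cd (dec (2 ^ i))
    rw [cd_dec (two_pow_lt (n := 8) hi)]
  real := exists_real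

theorem act8_ap (g : O8) (v : ℕ) : act8.ap g v = cd ((g : V ≃ₗ[ZMod 2] V) (dec v)) := rfl

/-! ### Masks -/

/-- mask of `v ↦ bit i of v` -/
def bm : ℕ → ℕ
  | 0 => 77194726158210796949047323339125271902179989777093709359638389338608753093290
  | 1 => 92633671389852956338856788006950326282615987732512451231566067206330503711948
  | 2 => 108980789870415242751596221184647442685430573802955824978313020242741769072880
  | 3 => 115341536360906404779899502576747487978354537254490211650198994186870666100480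
  | 4 => 115790322417210952336529717160220497262186272106556906860092653394915770695680
  | 5 => 115792089210356248762697446947946071893095522863849111501270640965525260206080
  | 6 => 115792089237316195417293883273301227089774477609353836086800156426807153786880
  | 7 => 115792089237316195423570985008687907852929702298719625575994209400481361428480
  | _ => 0

/-- all vectors -/
def fl8 : ℕ := 115792089237316195423570985008687907853269984665640564039457584007913129639935

/-- mask of the quadratic form -/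
def mQ8 : ℕ := 47759223636507730209801550344371119078934783318887441289834004656231277002752

/-- mask of `v ↦ Bn v u` -/
def mB8 (u : ℕ) : ℕ :=
  (((bif u.testBit 4 then bm 0 else 0) ^^^ (bif u.testBit 5 then bm 1 else 0)) ^^^ (bif u.testBit 6 then bm 2 else 0) ^^^
  (bif u.testBit 7 then bm 3 else 0)) ^^^
  (((bif u.testBit 0 then bm 4 else 0) ^^^ (bif u.testBit 1 then bm 5 else 0)) ^^^ (bif u.testBit 2 then bm 6 else 0) ^^^
  (bif u.testBit 3 then bm 7 else 0))

theorem bm_bit : ∀ i < 8, ∀ v < 256, (bm i).testBit v = v.testBit i := by decide +kernel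

theorem cond_bit (b : Bool) (m v : ℕ) : (bif b then m else 0).testBit v = (b && m.testBit v) := by
  cases b
  · rw [cond_false, Nat.zero_testBit, Bool.false_and]
  · rw [cond_true, Bool.true_and]

/-- the masks are correct -/
theorem masks : Masks 8 Bn qn fl8 mQ8 mB8 (fun i j => (i ^^^ 4) == j) (fun _ => false) where
  hfl := by decide +kernel
  hQ := by decide +kernel
  hB u _ v hv := by
    have hv' : v < 256 := hv
    simp only [mB8, Nat.testBit_xor, cond_bit, bm_bit 0 (by norm_num) v hv', bm_bit 1 (by norm_num) v hv',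
      bm_bit 2 (by norm_num) v hv', bm_bit 3 (by norm_num) v hv', bm_bit 4 (by norm_num) v hv',
      bm_bit 5 (by norm_num) v hv', bm_bit 6 (by norm_num) v hv', bm_bit 7 (by norm_num) v hv', Bn]
    simp only [Bool.and_comm (Nat.testBit v _)]
  hb := by decide +kernel
  hq := by decide +kernel

end Cfsg.Agent.H201.O8
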