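import Cfsg.Agent.H201.O8.Fin
import Cfsg.Agent.H6.ORE.CoOne

/-!
# `OreO8` : every element `≠ 1` of `Ω⁺(8,2)` is the commutator of a generating pair
-/

set_option autoImplicit false

namespace Cfsg.Agent.H201.O8

open Cfsg Cfsg.Agent.StdO8.Model Cfsg.Agent.CoOneNWC.OmFacts

theorem om8_equiv : Nonempty (Om8 ≃* Om) := by
  obtain ⟨e2⟩ := exists_equiv (F := ZMod 2) (by rw [ZMod.card])
  exact ⟨((QuotientGroup.quotientBot.symm).trans (QuotientGroup.quotientMulEquivOfEq center_om8.symm)).trans e2⟩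

/-- **`OreO8`** -/
theorem oreO8 : Cfsg.Agent.H6.ORE.CoOne.OreO8 := by
  intro l hl
  obtain ⟨e⟩ := om8_equiv
  have h1 : e l ≠ 1 := fun h => hl (e.injective (by rw [h, map_one]))
  obtain ⟨a, b, h2, h3⟩ := (good_all h1).map e.symm
  rw [MulEquiv.symm_apply_apply] at h2
  exact ⟨a, b, h2.symm, h3⟩

end Cfsg.Agent.H201.O8
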